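import Mathlib
import Groth.Agent.LocFree.Props
import Groth.Agent.QC.Localisation
import Groth.Prelude.Def_FlatMod2

/-!
# The rank of `f_* O_X` and the rank of `f`
-/

set_option autoImplicit false
set_option linter.style.haveILetI false
set_option backward.isDefEq.respectTransparency false

universe u

open CategoryTheory CategoryTheory.Limits AlgebraicGeometry TopologicalSpace Opposite Groth.Agent.QC

noncomputable section

namespace Groth.Agent.FEtRank

variable {X Y : Scheme.{u}}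

theorem finrank_sections_of_le {M : X.Modules} {W : X.Opens} {n : ℕ}
    (e : M.restrict W.ι ≅ FlatMod.freeMod (↑W) n)
    {D : X.Opens} (hD : IsAffineOpen D) (hDW : D ≤ W) :
    ∃ _ : Γ(M, D) ≃ₗ[Γ(X, D)] (ULift.{u} (Fin n) →₀ Γ(X, D)), True := by
  let ι' : Spec Γ(X, D) ⟶ (W : Scheme.{u}) :=
    IsOpenImmersion.lift W.ι hD.fromSpec (by rw [hD.range_fromSpec, Scheme.Opens.range_ι]; exact hDW)
  have hι : ι' ≫ W.ι = hD.fromSpec := IsOpenImmersion.lift_fac _ _ _
  haveI : IsOpenImmersion (ι' ≫ W.ι) := by rw [hι]; infer_instance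
  haveI : IsOpenImmersion ι' := IsOpenImmersion.of_comp ι' W.ι
  let e' : M.restrict hD.fromSpec ≅ FlatMod.freeMod (Spec Γ(X, D)) n :=
    (Scheme.Modules.restrictFunctorCongr hι).symm.app M ≪≫
      (Scheme.Modules.restrictFunctorComp ι' W.ι).app M ≪≫
      (Scheme.Modules.restrictFunctor ι').mapIso e ≪≫
      (Scheme.Modules.restrictFunctorIsoPullback ι').app _ ≪≫
      Groth.Agent.DerPerf.pullFreeIso ι' n
  let e'' : M.restrict hD.fromSpec ≅ tilde (ModuleCat.of Γ(X, D) (ULift.{u} (Fin n) →₀ Γ(X, D))) :=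
    e' ≪≫ (Sigma.whiskerEquiv (f := fun _ : ULift.{u} (Fin n) => Coh.structureModule (Spec Γ(X, D)))
      (g := fun _ : Fin n => Coh.structureModule (Spec Γ(X, D))) Equiv.ulift
      (fun _ => Iso.refl _)).symm ≪≫
      (tildeFinsupp (R := Γ(X, D)) (ULift.{u} (Fin n))).symm
  exact ⟨(topEquiv hD M).symm.trans (moduleSpecΓFunctor.mapIso e'' ≪≫
      (tilde.toTildeΓNatIso.app
        (ModuleCat.of Γ(X, D) (ULift.{u} (Fin n) →₀ Γ(X, D)))).symm).toLinearEquiv, trivial⟩

theorem finrank_of_iso (f : X ⟶ Y) [IsFinite f] [Flat f] {W : Y.Opens} {n : ℕ}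
    (e : ((Scheme.Modules.pushforward f).obj (Coh.structureModule X)).restrict W.ι ≅
      FlatMod.freeMod (↑W) n) {y : Y} (hy : y ∈ W) : f.finrank y = n := by
  obtain ⟨D, hD, hyD, hDW⟩ := exists_isAffineOpen_mem_and_subset hy
  have hD' : IsAffineOpen (f ⁻¹ᵁ D) := hD.preimage f
  have sq : IsPullback hD'.fromSpec (Spec.map (f.app D)) f hD.fromSpec := by
    refine (IsOpenImmersion.isPullback (Spec.map (f.app D)) hD'.fromSpec hD.fromSpec f ?_ ?_).flip
    · rw [← hD.SpecMap_appLE_fromSpec f hD' le_rfl, Scheme.Hom.appLE_eq_app]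
    · rw [hD'.opensRange_fromSpec, hD.opensRange_fromSpec]
  have hfin : (f.app D).hom.Finite := f.finite_app D hD
  have hflat : (f.app D).hom.Flat := by
    rw [← Scheme.Hom.appLE_eq_app]
    exact HasRingHomProperty.appLE @Flat f inferInstance ⟨D, hD⟩ ⟨_, hD'⟩ le_rfl
  obtain ⟨y', rfl⟩ : y ∈ Set.range hD.fromSpec := by rw [hD.range_fromSpec]; exact hyD
  rw [← Scheme.Hom.finrank_of_isPullback _ _ _ _ sq,
    Scheme.Hom.finrank_SpecMap_eq_finrank hfin hflat]
  letI := (f.app D).hom.toAlgebra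
  obtain ⟨l, -⟩ := finrank_sections_of_le e hD hDW
  let l' : Γ(X, f ⁻¹ᵁ D) ≃ₗ[Γ(Y, D)] (ULift.{u} (Fin n) →₀ Γ(Y, D)) :=
    { toFun := fun x => l x
      invFun := fun v => l.symm v
      map_add' := fun a b => l.map_add a b
      map_smul' := fun r a => l.map_smul r a
      left_inv := fun x => l.symm_apply_apply x
      right_inv := fun v => l.apply_symm_apply v }
  haveI : Nontrivial Γ(Y, D) := y'.nontrivial
  show Module.rankAtStalk Γ(X, f ⁻¹ᵁ D) y' = n
  rw [Module.rankAtStalk_eq_of_equiv l', Module.rankAtStalk_eq_finrank_of_free]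
  simp

theorem finrank_eq_of_isFinLocFreeOfRank (f : X ⟶ Y) [IsFinite f] [Flat f] {n : ℕ}
    (h : FlatMod.IsFinLocFreeOfRank n
      ((Scheme.Modules.pushforward f).obj (Coh.structureModule X))) (y : Y) :
    f.finrank y = n := by
  obtain ⟨W, hy, ⟨e⟩⟩ := h y
  exact finrank_of_iso f e hy

theorem isFinLocFreeOfRank_of_finrank_eq (f : X ⟶ Y) [IsFinite f] [Flat f]
    [LocallyOfFinitePresentation f] {n : ℕ} (h : ∀ y, f.finrank y = n) :
    FlatMod.IsFinLocFreeOfRank n ((Scheme.Modules.pushforward f).obj (Coh.structureModule X)) := by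
  have hq : Coh.IsQCoh ((Scheme.Modules.pushforward f).obj (Coh.structureModule X)) :=
    haveI : (Coh.structureModule X).IsQuasicoherent := isQCoh_unit X
    isQCoh_pushforward f
  have hlf := Groth.Agent.LocFree.isFinLocFree_of_affine_projective hq fun y => by
    obtain ⟨D, hD, hyD, -⟩ := exists_isAffineOpen_mem_and_subset (x := y) (U := (⊤ : Y.Opens)) trivial
    have hD' : IsAffineOpen (f ⁻¹ᵁ D) := hD.preimage f
    have hfin : (f.app D).hom.Finite := f.finite_app D hD
    have hflat : (f.app D).hom.Flat := by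
      rw [← Scheme.Hom.appLE_eq_app]
      exact HasRingHomProperty.appLE @Flat f inferInstance ⟨D, hD⟩ ⟨_, hD'⟩ le_rfl
    have hfp : (f.app D).hom.FinitePresentation := by
      rw [← Scheme.Hom.appLE_eq_app]
      exact HasRingHomProperty.appLE @LocallyOfFinitePresentation f inferInstance ⟨D, hD⟩
        ⟨_, hD'⟩ le_rfl
    letI := (f.app D).hom.toAlgebra
    haveI : Module.Finite Γ(Y, D) Γ(X, f ⁻¹ᵁ D) := hfin
    haveI : Algebra.FinitePresentation Γ(Y, D) Γ(X, f ⁻¹ᵁ D) := hfp
    haveI : Module.Flat Γ(Y, D) Γ(X, f ⁻¹ᵁ D) := hflat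
    let l : Γ(X, f ⁻¹ᵁ D) ≃ₗ[Γ(Y, D)]
        Γ((Scheme.Modules.pushforward f).obj (Coh.structureModule X), D) :=
      { toFun := fun x => x
        invFun := fun x => x
        map_add' := fun _ _ => rfl
        map_smul' := fun _ _ => rfl
        left_inv := fun _ => rfl
        right_inv := fun _ => rfl }
    haveI := Module.FinitePresentation.of_finite_of_finitePresentation Γ(Y, D) Γ(X, f ⁻¹ᵁ D)
    exact ⟨D, hD, hyD, Module.FinitePresentation.of_equiv l, Module.Flat.of_linearEquiv l.symm⟩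
  intro y
  obtain ⟨W, m, hy, ⟨e⟩⟩ := hlf y
  obtain rfl : m = n := (finrank_of_iso f e hy).symm.trans (h y)
  exact ⟨W, hy, ⟨e⟩⟩

end Groth.Agent.FEtRank
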