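import Mathlib
import Groth.Prelude.Def_FEt
import Groth.Agent.FEtGal.Galois
import Groth.Agent.FEtRank.PushRank

/-!
# Degree of a finite étale cover and cardinality of geometric fibres
-/

set_option autoImplicit false
set_option linter.style.haveILetI false
set_option backward.isDefEq.respectTransparency false

universe u

open CategoryTheory CategoryTheory.Limits AlgebraicGeometry

noncomputable section

namespace Groth.Agent.FEtRank

open Groth.Agent.FEtGal

variable {X : Scheme.{u}}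

instance flat_str (Y : FEt.Cat X) : Flat (str Y) := inferInstance

theorem exists_geomPt (x : X) : ∃ (Ω : Type u) (_ : Field Ω) (_ : IsAlgClosed Ω)
    (ξ : Spec (CommRingCat.of Ω) ⟶ X), ξ (pt₀ Ω) = x := by
  refine ⟨AlgebraicClosure (X.residueField x), inferInstance, inferInstance,
    Spec.map (CommRingCat.ofHom (algebraMap (X.residueField x)
      (AlgebraicClosure (X.residueField x)))) ≫ X.fromSpecResidueField x, ?_⟩
  rw [Scheme.Hom.comp_apply]
  exact Scheme.fromSpecResidueField_apply x _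

theorem natCard_points {Ω : Type u} [Field Ω] [IsAlgClosed Ω]
    (Z : FEt.Cat (Spec (CommRingCat.of Ω))) :
    Nat.card (FEt.fiberObj (idPt Ω) Z) = (str Z).finrank (pt₀ Ω) := by
  haveI : IsAffine Z.left := isAffine_of_isAffineHom (str Z)
  let φ : CommRingCat.of Ω ⟶ Γ(Z.left, ⊤) := Spec.preimage (Z.left.isoSpec.inv ≫ str Z)
  have hφ : Spec.map φ = Z.left.isoSpec.inv ≫ str Z := Spec.map_preimage _
  haveI : IsFinite (Spec.map φ) := by rw [hφ]; infer_instance
  haveI : Etale (Spec.map φ) := by rw [hφ]; infer_instance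
  letI := φ.hom.toAlgebra
  haveI : Module.Finite Ω Γ(Z.left, ⊤) := (IsFinite.SpecMap_iff φ).1 inferInstance
  haveI : Algebra.Etale Ω Γ(Z.left, ⊤) :=
    RingHom.etale_algebraMap.1 ((HasRingHomProperty.Spec_iff (P := @Etale)).1
      (inferInstance : Etale (Spec.map φ)))
  haveI : Algebra.IsFiniteSplit Ω Γ(Z.left, ⊤) := inferInstance
  obtain ⟨n, ⟨e⟩⟩ := Algebra.IsFiniteSplit.nonempty_algEquiv_fun Ω Γ(Z.left, ⊤)
  have hrank : (str Z).finrank (pt₀ Ω) = n := by
    rw [← Scheme.Hom.finrank_comp_left_of_isIso Z.left.isoSpec.inv (str Z), ← hφ,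
      Scheme.Hom.finrank_SpecMap_eq_finrank ((IsFinite.SpecMap_iff φ).1 inferInstance)
        ((Flat.SpecMap_iff (f := φ)).1 inferInstance)]
    show Module.rankAtStalk Γ(Z.left, ⊤) (pt₀ Ω : PrimeSpectrum Ω) = n
    rw [Module.rankAtStalk_eq_of_equiv e.toLinearEquiv, Module.rankAtStalk_eq_finrank_of_free]
    simp
  haveI : IsArtinianRing Γ(Z.left, ⊤) := IsArtinianRing.of_finite Ω _
  haveI : DiscreteTopology Z.left :=
    (Z.left.isoSpec.hom.homeomorph).discreteTopology_iff.2
      (inferInstanceAs (DiscreteTopology (PrimeSpectrum Γ(Z.left, ⊤))))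
  have h1 : Nat.card (FEt.fiberObj (idPt Ω) Z) = Nat.card Z.left :=
    Nat.card_congr ((pointEquivClosedPoint (str Z)).trans
      (Equiv.subtypeUnivEquiv fun z => mem_closedPoints_iff.2 (isClosed_discrete {z})))
  rw [h1, hrank, Nat.card_congr Z.left.isoSpec.hom.homeomorph.toEquiv]
  show Nat.card (PrimeSpectrum Γ(Z.left, ⊤)) = n
  rw [Nat.card_congr (PrimeSpectrum.comapEquiv e.toRingEquiv).toEquiv,
    Nat.card_congr (Equiv.ofBijective (PrimeSpectrum.sigmaToPi fun _ : Fin n => Ω)
      ⟨PrimeSpectrum.sigmaToPi_injective _, fun p => by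
        obtain ⟨i, q, hq⟩ := PrimeSpectrum.exists_comap_evalRingHom_eq p
        exact ⟨⟨i, q⟩, hq⟩⟩).symm]
  simp

/-- The geometric fibre has as many points as the degree. -/
theorem natCard_fiber {Ω : Type u} [Field Ω] [IsAlgClosed Ω]
    (ξ : Spec (CommRingCat.of Ω) ⟶ X) (Y : FEt.Cat X) :
    Nat.card (FEt.fiberObj ξ Y) = (str Y).finrank (ξ (pt₀ Ω)) := by
  rw [← Nat.card_congr (pointsRestrict ξ Y), natCard_points]
  exact Scheme.Hom.finrank_pullback_snd (str Y) ξ _

theorem isEmpty_of_forall_isEmpty_fiber (W : FEt.Cat X)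
    (h : ∀ (Ω : Type u) [Field Ω] [IsAlgClosed Ω] (ξ : Spec (CommRingCat.of Ω) ⟶ X),
      IsEmpty (FEt.fiberObj ξ W)) : IsEmpty W.left :=
  ⟨fun w => by
    obtain ⟨Ω, _, _, η, -⟩ := exists_geomPt w
    exact (h Ω (η ≫ str W)).false ⟨η, rfl⟩⟩

theorem isIso_of_mono_of_forall_surjective {Y Z : FEt.Cat X} (i : Y ⟶ Z) [Mono i]
    (h : ∀ (Ω : Type u) [Field Ω] [IsAlgClosed Ω] (ξ : Spec (CommRingCat.of Ω) ⟶ X),
      Function.Surjective (fmap ξ i)) : IsIso i := by
  obtain ⟨_, W, u, _, hc⟩ := mono_complement i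
  haveI := isEmpty_of_forall_isEmpty_fiber W fun Ω _ _ ξ => ⟨fun w => by
    obtain ⟨y, hy⟩ := h Ω ξ (fmap ξ u w)
    exact Set.disjoint_left.1 (isCompl_range_fmap ξ i u hc).disjoint ⟨y, hy⟩ ⟨w, rfl⟩⟩
  have hu : Set.range i.left = Set.univ := by
    have := hc.sup_eq_top
    simpa [Set.range_eq_empty u.left] using this
  haveI : Surjective i.left := ⟨Set.range_eq_univ.1 hu⟩
  exact isIso_of_isIso_left i ((isIso_iff_isOpenImmersion_and_surjective i.left).2
    ⟨inferInstance, inferInstance⟩)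

theorem isIso_of_forall_bijective {Y Z : FEt.Cat X} (φ : Y ⟶ Z)
    (h : ∀ (Ω : Type u) [Field Ω] [IsAlgClosed Ω] (ξ : Spec (CommRingCat.of Ω) ⟶ X),
      Function.Bijective (fmap ξ φ)) : IsIso φ := by
  haveI : IsIso (pullback.diagonal φ) := by
    refine isIso_of_mono_of_forall_surjective _ fun Ω _ _ ξ => ?_
    let F := FEt.fiber ξ
    haveI : Mono (F.map φ) := (mono_iff_injective _).2 (h Ω ξ).1
    haveI : IsIso (F.map (pullback.fst φ φ)) :=
      IsKernelPair.isIso_of_mono ((IsPullback.of_hasPullback φ φ).map F)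
    haveI : IsIso (F.map (pullback.diagonal φ) ≫ F.map (pullback.fst φ φ)) := by
      rw [← F.map_comp, pullback.diagonal_fst, F.map_id]; infer_instance
    haveI : IsIso (F.map (pullback.diagonal φ)) :=
      IsIso.of_isIso_comp_right _ (F.map (pullback.fst φ φ))
    exact ((isIso_iff_bijective _).1 (inferInstanceAs (IsIso (F.map (pullback.diagonal φ))))).2
  haveI : Mono φ := by
    constructor
    intro T a b hab
    have e : pullback.fst φ φ = pullback.snd φ φ := by
      rw [← cancel_epi (pullback.diagonal φ), pullback.diagonal_fst, pullback.diagonal_snd]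
    rw [← pullback.lift_fst a b hab, e, pullback.lift_snd]
  exact isIso_of_mono_of_forall_surjective φ fun Ω _ _ ξ => (h Ω ξ).2

end Groth.Agent.FEtRank
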