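import Mathlib
import Groth.Prelude.Def_FEt
import Groth.Agent.FEtRank.Count

/-!
# Splitting a finite étale cover of constant degree
-/

set_option autoImplicit false
set_option linter.style.haveILetI false
set_option backward.isDefEq.respectTransparency false

universe u

open CategoryTheory CategoryTheory.Limits AlgebraicGeometry

noncomputable section

namespace Groth.Agent.FEtRank

open Groth.Agent.FEtGal

/-- The trivial cover. -/
def one (X : Scheme.{u}) : FEt.Cat X :=
  MorphismProperty.Over.mk ⊤ (𝟙 X) (FEt.prop.{u}.id_mem X)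

/-- The structure morphism as a map to the trivial cover. -/
def toOne {X : Scheme.{u}} (Y : FEt.Cat X) : Y ⟶ one X :=
  MorphismProperty.Over.homMk (str Y) (Category.comp_id _)

/-- The forgetful functor to schemes. -/
abbrev totalSpace (X : Scheme.{u}) : FEt.Cat X ⥤ Scheme.{u} :=
  MorphismProperty.Over.forget _ ⊤ X ⋙ CategoryTheory.Over.forget X

instance preservesBinaryCoproducts_totalSpace (X : Scheme.{u}) :
    PreservesColimitsOfShape (Discrete WalkingPair) (totalSpace X) :=
  ⟨fun {K} => by
    haveI : PreservesColimit (pair (K.obj ⟨.left⟩) (K.obj ⟨.right⟩)) (totalSpace X) :=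
      preservesColimit_of_preserves_colimit_cocone (isColimitCoprodObj _ _)
        ((isColimitMapCoconeBinaryCofanEquiv (totalSpace X) _ _).symm
          (coprodIsCoprod (K.obj ⟨.left⟩).left (K.obj ⟨.right⟩).left))
    exact preservesColimit_of_iso_diagram _ (diagramIsoPair K).symm⟩

instance preservesInitial_totalSpace (X : Scheme.{u}) :
    PreservesColimitsOfShape (Discrete PEmpty.{1}) (totalSpace X) := by
  haveI : PreservesColimit (Functor.empty.{0} (FEt.Cat X)) (totalSpace X) := by
    refine preservesColimit_of_preserves_colimit_cocone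
      (isInitialCover (emptyObj X) isEmpty_emptyScheme) ?_
    exact (isColimitMapCoconeEmptyCoconeEquiv (totalSpace X) _).symm
      (AlgebraicGeometry.isInitialOfIsEmpty (X := (∅ : Scheme.{u})))
  exact preservesColimitsOfShape_pempty_of_preservesInitial _

instance preservesFiniteCoproducts_totalSpace (X : Scheme.{u}) :
    PreservesFiniteCoproducts (totalSpace X) :=
  ⟨fun n => preservesShape_fin_of_preserves_binary_and_initial _ n⟩

variable {X : Scheme.{u}}

/-- A section as a point of each fibre. -/
def secPt {Z : FEt.Cat X} (s : one X ⟶ Z) {Ω : Type u} [Field Ω]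
    (ξ : Spec (CommRingCat.of Ω) ⟶ X) : FEt.fiberObj ξ Z :=
  fmap ξ s ⟨ξ, Category.comp_id ξ⟩

/-- Sections giving all the points of the fibre at `ξ`. -/
def SplitAt {Z : FEt.Cat X} {n : ℕ} (s : Fin n → (one X ⟶ Z)) {Ω : Type u} [Field Ω]
    (ξ : Spec (CommRingCat.of Ω) ⟶ X) : Prop :=
  Function.Bijective fun j => secPt (s j) ξ

theorem subsingleton_fiber_one {Ω : Type u} [Field Ω] (ξ : Spec (CommRingCat.of Ω) ⟶ X) :
    Subsingleton (FEt.fiberObj ξ (one X)) :=
  ⟨fun s t => Subtype.ext (((Category.comp_id s.1).symm.trans s.2).trans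
    ((Category.comp_id t.1).symm.trans t.2).symm)⟩

theorem bijective_desc {Z : FEt.Cat X} {n : ℕ} (s : Fin n → (one X ⟶ Z)) {Ω : Type u} [Field Ω]
    (ξ : Spec (CommRingCat.of Ω) ⟶ X) (h : SplitAt s ξ) :
    Function.Bijective (fmap ξ (Sigma.desc s)) := by
  have hsurj : ∀ p : FEt.fiberObj ξ (∐ fun _ : Fin n => one X),
      ∃ j, secPt (Sigma.ι (fun _ : Fin n => one X) j) ξ = p := fun p => by
    obtain ⟨⟨j⟩, x, hx⟩ := Types.jointly_surjective _
      (isColimitOfPreserves (FEt.fiber ξ) (colimit.isColimit
        (Discrete.functor fun _ : Fin n => one X))) p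
    haveI := subsingleton_fiber_one (X := X) ξ
    refine ⟨j, ?_⟩
    rw [← hx, Subsingleton.elim (α := FEt.fiberObj ξ (one X)) x ⟨ξ, Category.comp_id ξ⟩]
    rfl
  have key : ∀ j, fmap ξ (Sigma.desc s) (secPt (Sigma.ι (fun _ : Fin n => one X) j) ξ) =
      secPt (s j) ξ := fun j => by
    refine Subtype.ext ?_
    show (ξ ≫ (Sigma.ι (fun _ : Fin n => one X) j).left) ≫ (Sigma.desc s).left = ξ ≫ (s j).left
    rw [Category.assoc, ← MorphismProperty.Comma.comp_left, Sigma.ι_desc]
  constructor
  · intro p q hpq
    obtain ⟨i, rfl⟩ := hsurj p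
    obtain ⟨j, rfl⟩ := hsurj q
    rw [key, key] at hpq
    rw [h.1 hpq]
  · intro z
    obtain ⟨j, hj⟩ := h.2 z
    exact ⟨_, (key j).trans hj⟩

theorem exists_coprod_iso {Z : FEt.Cat X} {n : ℕ} (s : Fin n → (one X ⟶ Z))
    (hi : IsIso (Sigma.desc s)) :
    ∃ e : Z.left ≅ ∐ fun _ : Fin n => X, ∀ i,
      Sigma.ι (fun _ : Fin n => X) i ≫ e.inv = (s i).left := by
  refine ⟨((totalSpace X).mapIso (asIso (Sigma.desc s))).symm ≪≫
    PreservesCoproduct.iso (totalSpace X) (fun _ : Fin n => one X), fun i => ?_⟩
  simp only [Iso.trans_inv, Iso.symm_inv, Functor.mapIso_hom, asIso_hom,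
    PreservesCoproduct.inv_hom]
  exact (ι_comp_sigmaComparison_assoc (totalSpace X) (fun _ : Fin n => one X) i _).trans
    (((totalSpace X).map_comp _ _).symm.trans (congrArg (totalSpace X).map (Sigma.ι_desc s i)))

theorem exists_complement_one {Z : FEt.Cat X} (a : one X ⟶ Z) :
    ∃ (W : FEt.Cat X) (u : W ⟶ Z), ∀ (Ω : Type u) [Field Ω] (ξ : Spec (CommRingCat.of Ω) ⟶ X),
      Function.Injective (fmap ξ u) ∧
        ∀ z : FEt.fiberObj ξ Z, z ∈ Set.range (fmap ξ u) ↔ z ≠ secPt a ξ := by
  have ha : a.left ≫ str Z = 𝟙 X := MorphismProperty.Over.w a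
  haveI : Mono a.left := by
    haveI : IsSplitMono a.left := ⟨⟨⟨str Z, ha⟩⟩⟩
    infer_instance
  haveI : Mono a := (totalSpace X).mono_of_mono_map (inferInstanceAs (Mono a.left))
  obtain ⟨_, W, u, _, hc⟩ := mono_complement a
  refine ⟨W, u, fun Ω _ ξ => ⟨injective_fmap ξ u, fun z => ?_⟩⟩
  have h := isCompl_range_fmap ξ a u hc
  constructor
  · rintro hz rfl
    exact Set.disjoint_left.1 h.disjoint ⟨_, rfl⟩ hz
  · intro hz
    have hu' : z ∈ Set.range (fmap ξ a) ⊔ Set.range (fmap ξ u) := by
      rw [h.sup_eq_top]; trivial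
    rcases hu' with ⟨t, rfl⟩ | hu
    · haveI := subsingleton_fiber_one (X := X) ξ
      exact absurd (congrArg _ (Subsingleton.elim (α := FEt.fiberObj ξ (one X)) t _)) hz
    · exact hu

theorem exists_split (n : ℕ) : ∀ {S : Scheme.{u}} (Y : FEt.Cat S),
    (∀ (Ω : Type u) [Field Ω] [IsAlgClosed Ω] (ξ : Spec (CommRingCat.of Ω) ⟶ S),
      Nat.card (FEt.fiberObj ξ Y) = n) →
    ∃ (T : FEt.Cat S) (s : Fin n → (one T.left ⟶ (FEt.restrict (str T)).obj Y)),
      (∀ (Ω : Type u) [Field Ω] [IsAlgClosed Ω] (ξ : Spec (CommRingCat.of Ω) ⟶ S),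
        Nat.card (FEt.fiberObj ξ T) = n.factorial) ∧
      ∀ (Ω : Type u) [Field Ω] [IsAlgClosed Ω] (ξ : Spec (CommRingCat.of Ω) ⟶ T.left),
        SplitAt s ξ := by
  induction n with
  | zero =>
    intro S Y h
    refine ⟨one S, Fin.elim0, fun Ω _ _ ξ => ?_, fun Ω _ _ ξ => ⟨fun i => i.elim0, fun z => ?_⟩⟩
    · haveI := subsingleton_fiber_one (X := S) ξ
      haveI : Nonempty (FEt.fiberObj ξ (one S)) := ⟨⟨ξ, Category.comp_id ξ⟩⟩
      exact Nat.card_of_subsingleton (α := FEt.fiberObj ξ (one S)) ⟨ξ, Category.comp_id ξ⟩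
    · exfalso
      haveI : Finite (FEt.fiberObj (ξ ≫ str (one S)) Y) := Groth.Agent.S0294.result _ Y
      have := Finite.card_eq_zero_iff.1 (h Ω (ξ ≫ str (one S)))
      refine this.false ⟨z.1 ≫ pullback.fst (str Y) (str (one S)), ?_⟩
      have hz : z.1 ≫ pullback.snd (str Y) (str (one S)) = ξ := z.2
      exact (Category.assoc _ _ _).trans ((congrArg (z.1 ≫ ·) pullback.condition).trans
        ((reassoc_of% hz) _))
  | succ n IH =>
    intro S Y h
    let Z := (FEt.restrict (str Y)).obj Y
    let a : one Y.left ⟶ Z := MorphismProperty.Over.homMk (pullback.diagonal (str Y))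
      (pullback.diagonal_snd (str Y))
    obtain ⟨W, u, hu⟩ := exists_complement_one a
    -- points of `Z` over a point `η` of `Y`
    have hZ : ∀ (Ω : Type u) [Field Ω] (η : Spec (CommRingCat.of Ω) ⟶ Y.left),
        ∃ b : FEt.fiberObj η Z ≃ FEt.fiberObj (η ≫ str Y) Y, ∀ z, (b z).1 = z.1 ≫ pullback.fst _ _ := by
      intro Ω _ η
      refine ⟨{
        toFun := fun z => ⟨z.1 ≫ pullback.fst (str Y) (str Y), by
          have hz : z.1 ≫ pullback.snd (str Y) (str Y) = η := z.2
          exact (Category.assoc _ _ _).trans ((congrArg (z.1 ≫ ·) pullback.condition).trans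
            ((reassoc_of% hz) _))⟩
        invFun := fun y => ⟨pullback.lift y.1 η y.2, pullback.lift_snd _ _ _⟩
        left_inv := fun z => Subtype.ext (pullback.hom_ext (pullback.lift_fst _ _ _)
          ((pullback.lift_snd _ _ _).trans z.2.symm))
        right_inv := fun y => Subtype.ext (pullback.lift_fst _ _ _) }, fun z => rfl⟩
    have hW : ∀ (Ω : Type u) [Field Ω] [IsAlgClosed Ω] (η : Spec (CommRingCat.of Ω) ⟶ Y.left),
        Nat.card (FEt.fiberObj η W) = n := by
      intro Ω _ _ η
      haveI : Finite (FEt.fiberObj η Z) := Groth.Agent.S0294.result η Z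
      have hc : Nat.card (FEt.fiberObj η Z) = n + 1 := by
        rw [Nat.card_congr (hZ Ω η).choose, h Ω (η ≫ str Y)]
      rw [← Nat.card_range_of_injective (hu Ω η).1]
      have : Set.range (fmap η u) = {secPt a η}ᶜ := Set.ext fun z => (hu Ω η).2 z
      rw [this, Nat.card_coe_set_eq, Set.ncard_compl, Set.ncard_singleton, hc]
      simp
    obtain ⟨T', s', hT', hs'⟩ := IH W hW
    let t : T'.left ⟶ Y.left := str T'
    let T : FEt.Cat S := MorphismProperty.Over.mk ⊤ (t ≫ str Y)
      (FEt.prop.{u}.comp_mem _ _ T'.prop Y.prop)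
    let σ₀ : T'.left ⟶ pullback (str Y) (t ≫ str Y) := pullback.lift t (𝟙 _) (Category.id_comp _).symm
    let w : Fin n → (T'.left ⟶ Z.left) := fun i =>
      (s' i).left ≫ pullback.fst (str W) t ≫ u.left
    have hw : ∀ i, w i ≫ pullback.snd (str Y) (str Y) = t := fun i => by
      have h1 : u.left ≫ pullback.snd (str Y) (str Y) = str W := MorphismProperty.Over.w u
      have h2 : (s' i).left ≫ pullback.snd (str W) t = 𝟙 _ := MorphismProperty.Over.w (s' i)
      simp only [w, Category.assoc, h1, pullback.condition]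
      exact (reassoc_of% h2) t
    let σ : Fin n → (T'.left ⟶ pullback (str Y) (t ≫ str Y)) := fun i =>
      pullback.lift (w i ≫ pullback.fst (str Y) (str Y)) (𝟙 _) (by
        rw [Category.assoc, pullback.condition, ← Category.assoc, hw, Category.id_comp])
    let s : Fin (n + 1) → (one T.left ⟶ (FEt.restrict (str T)).obj Y) :=
      Fin.cases (MorphismProperty.Over.homMk σ₀ (pullback.lift_snd _ _ _))
        (fun i => MorphismProperty.Over.homMk (σ i) (pullback.lift_snd _ _ _))
    refine ⟨T, s, fun Ω _ _ ξ => ?_, fun Ω _ _ ξ => ?_⟩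
    · let e : FEt.fiberObj ξ T ≃ Σ y : FEt.fiberObj ξ Y, FEt.fiberObj y.1 T' :=
        { toFun := fun p => ⟨⟨p.1 ≫ t, (Category.assoc _ _ _).trans p.2⟩, ⟨p.1, rfl⟩⟩
          invFun := fun q => ⟨q.2.1, by
            have hq : q.2.1 ≫ t = q.1.1 := q.2.2
            exact ((reassoc_of% hq) (str Y)).trans q.1.2⟩
          left_inv := fun p => rfl
          right_inv := fun ⟨⟨y, hy⟩, ⟨p, hp⟩⟩ => by
            cases hp
            rfl }
      haveI : Finite (FEt.fiberObj ξ Y) := Groth.Agent.S0294.result ξ Y
      haveI : Fintype (FEt.fiberObj ξ Y) := Fintype.ofFinite _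
      haveI : ∀ y : FEt.fiberObj ξ Y, Finite (FEt.fiberObj y.1 T') := fun y =>
        Groth.Agent.S0294.result _ T'
      rw [Nat.card_congr e, Nat.card_sigma, Finset.sum_congr rfl fun y _ => hT' Ω y.1,
        Finset.sum_const, Finset.card_univ, ← Nat.card_eq_fintype_card, h Ω ξ,
        Nat.factorial_succ, smul_eq_mul]
    · let η : Spec (CommRingCat.of Ω) ⟶ Y.left := ξ ≫ t
      obtain ⟨b, hb⟩ := hZ Ω η
      let c : FEt.fiberObj ξ ((FEt.restrict (str T)).obj Y) ≃ FEt.fiberObj η Z :=
        { toFun := fun q => ⟨pullback.lift (q.1 ≫ pullback.fst (str Y) (t ≫ str Y)) η (by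
            have hq : q.1 ≫ pullback.snd (str Y) (t ≫ str Y) = ξ := q.2
            rw [Category.assoc, pullback.condition]
            exact ((reassoc_of% hq) _).trans (Category.assoc _ _ _).symm), pullback.lift_snd _ _ _⟩
          invFun := fun z => ⟨pullback.lift (z.1 ≫ pullback.fst (str Y) (str Y)) ξ (by
            have hz : z.1 ≫ pullback.snd (str Y) (str Y) = η := z.2
            rw [Category.assoc, pullback.condition]
            exact ((reassoc_of% hz) _).trans (Category.assoc _ _ _)), pullback.lift_snd _ _ _⟩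
          left_inv := fun q => Subtype.ext (pullback.hom_ext
            (by rw [pullback.lift_fst]; exact pullback.lift_fst _ _ _)
            ((pullback.lift_snd _ _ _).trans q.2.symm))
          right_inv := fun z => Subtype.ext (pullback.hom_ext
            (by rw [pullback.lift_fst]; exact pullback.lift_fst _ _ _)
            ((pullback.lift_snd _ _ _).trans z.2.symm)) }
      have h0 : c (secPt (s 0) ξ) = secPt a η := by
        refine Subtype.ext (pullback.hom_ext ?_ ?_)
        · exact (pullback.lift_fst _ _ _).trans (((Category.assoc _ _ _).trans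
            (congrArg (ξ ≫ ·) (pullback.lift_fst t (𝟙 _) _))).trans
            ((Category.assoc η _ _).trans ((congrArg (η ≫ ·) (pullback.diagonal_fst (str Y))).trans
              (Category.comp_id η))).symm)
        · exact (pullback.lift_snd _ _ _).trans ((Category.assoc η _ _).trans
            ((congrArg (η ≫ ·) (pullback.diagonal_snd (str Y))).trans (Category.comp_id η))).symm
      let v : Fin n → FEt.fiberObj η W := fun i =>
        ⟨ξ ≫ (s' i).left ≫ pullback.fst (str W) t, by
          have h2 : (s' i).left ≫ pullback.snd (str W) t = 𝟙 _ := MorphismProperty.Over.w (s' i)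
          simp only [Category.assoc]
          show ξ ≫ (s' i).left ≫ pullback.fst (str W) t ≫ str W = ξ ≫ t
          rw [pullback.condition, reassoc_of% h2]⟩
      have hv : Function.Bijective v := by
        let d : FEt.fiberObj ξ ((FEt.restrict t).obj W) ≃ FEt.fiberObj η W :=
          { toFun := fun q => ⟨q.1 ≫ pullback.fst (str W) t, by
              have hq : q.1 ≫ pullback.snd (str W) t = ξ := q.2
              show (q.1 ≫ pullback.fst (str W) t) ≫ str W = ξ ≫ t
              rw [Category.assoc, pullback.condition, reassoc_of% hq]⟩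
            invFun := fun y => ⟨pullback.lift y.1 ξ y.2, pullback.lift_snd _ _ _⟩
            left_inv := fun q => Subtype.ext (pullback.hom_ext (pullback.lift_fst _ _ _)
              ((pullback.lift_snd _ _ _).trans q.2.symm))
            right_inv := fun y => Subtype.ext (pullback.lift_fst _ _ _) }
        have : v = d ∘ fun i => secPt (s' i) ξ :=
          funext fun i => Subtype.ext (Category.assoc _ _ _).symm
        rw [this]
        exact d.bijective.comp (hs' Ω ξ)
      have hs : ∀ i : Fin n, c (secPt (s i.succ) ξ) = fmap η u (v i) := by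
        intro i
        refine Subtype.ext (pullback.hom_ext ?_ ?_)
        · refine (pullback.lift_fst _ _ _).trans ((Category.assoc _ _ _).trans ?_)
          refine (congrArg (ξ ≫ ·) (pullback.lift_fst _ _ _)).trans ?_
          simp [w, v, fmap_val]
        · exact (pullback.lift_snd _ _ _).trans (fmap η u (v i)).2.symm
      have key : Function.Bijective (c ∘ fun j => secPt (s j) ξ) := by
        constructor
        · intro i j hij
          simp only [Function.comp_apply] at hij
          induction i using Fin.cases with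
          | zero =>
            induction j using Fin.cases with
            | zero => rfl
            | succ j =>
              rw [h0, hs] at hij
              exact absurd hij.symm (((hu Ω η).2 _).1 ⟨v j, rfl⟩)
          | succ i =>
            induction j using Fin.cases with
            | zero =>
              rw [h0, hs] at hij
              exact absurd hij (((hu Ω η).2 _).1 ⟨v i, rfl⟩)
            | succ j =>
              rw [hs, hs] at hij
              rw [hv.1 ((hu Ω η).1 hij)]
        · intro z
          by_cases hz : z = secPt a η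
          · exact ⟨0, h0.trans hz.symm⟩
          · obtain ⟨x, rfl⟩ := ((hu Ω η).2 z).2 hz
            obtain ⟨i, rfl⟩ := hv.2 x
            exact ⟨i.succ, hs i⟩
      exact (Function.Bijective.of_comp_iff' c.bijective _).1 key

end Groth.Agent.FEtRank
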